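import Mathlib
import Cfsg.Agent.Fischer3.Orth3Five
import Cfsg.Agent.Fischer3.OrthO9
import Cfsg.Agent.TSp.Plane

set_option autoImplicit false
set_option linter.unusedSimpArgs false
set_option linter.unusedSectionVars false

/-!
# From (E1) to the geometric hypotheses of the theorem (O)

If all local spaces `D_x` are of type `R n` (`n ≥ 5`), then the four lines through `x` of an affine
plane have the four points of a totally isotropic line of the space of `D_x` as directions. Hence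
every member of `D_x` commutes with one of the four lines. Affine planes exist.
-/

namespace Cfsg.Agent.FischerO.NeverOne

open LinearMap (BilinForm)
open Cfsg.Agent.Fischer480.Defs Cfsg.Agent.Fischer3.Orth3Basic Cfsg.Agent.Fischer3.Orth3Coord
open Cfsg.Agent.SporadicStructure.FischerSpace Cfsg.Agent.SporadicStructure.FischerRank3

variable {G : Type*} [Group G] {D : Set G}
variable {V : Type*} [AddCommGroup V] [Module (ZMod 3) V] {B : BilinForm (ZMod 3) V}

/-- `u` is the direction of `a` -/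
structure DirOf (B : BilinForm (ZMod 3) V) (f : V → G) (a : G) (u : V) : Prop where
  ne : u ≠ 0
  iso : B u u = 0
  iff : ∀ v, B v v = 1 → (Commute a (f v) ↔ B u v = 0)

theorem mem_span_pair' {p u w : V} :
    w ∈ Submodule.span (ZMod 3) (Set.range ![p, u]) ↔ ∃ a b : ZMod 3, a • p + b • u = w := by
  rw [Matrix.range_cons, Matrix.range_cons, Matrix.range_empty, Set.union_empty,
    Set.singleton_union, Submodule.mem_span_pair]

theorem mem_span_three {p u v w : V}
    (h : w ∈ Submodule.span (ZMod 3) (Set.range ![p, u, v])) :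
    ∃ a b c : ZMod 3, w = a • p + b • u + c • v := by
  rw [Submodule.mem_span_range_iff_exists_fun] at h
  obtain ⟨c, rfl⟩ := h
  rw [Fin.sum_univ_three]
  exact ⟨c 0, c 1, c 2, rfl⟩

section Basic

variable {f : V → G} {x : G}

theorem DirOf.conj (h : FData D) (F : Form B) (P : Par (Loc D x) B f) {a : G} {u s : V}
    (hd : DirOf B f a u) (hs : B s s = 1) : DirOf B f (f s * a * f s) (rfn B s u) where
  ne := by
    intro h0
    apply hd.ne
    rw [← refl_refl hs u, h0]
    simp [rfn]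
  iso := by rw [F.refl_norm hs, hd.iso]
  iff := by
    intro v hv
    rw [h.commute_conj_left_iff (P.mem s hs).1, P.conj s v hs hv,
      hd.iff _ (by rw [F.refl_norm hs, hv]), F.apply_refl hs]

theorem DirOf.conj_x (h : FData D) (hx : x ∈ D) (P : Par (Loc D x) B f) {a : G} {u : V}
    (hd : DirOf B f a u) : DirOf B f (x * a * x) u where
  ne := hd.ne
  iso := hd.iso
  iff := by
    intro v hv
    obtain ⟨h1, h2, h3⟩ := P.mem v hv
    rw [h.commute_conj_left_iff hx, (h.commute_iff hx _).1 h3]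
    exact hd.iff v hv

/-- the direction is unique up to the sign -/
theorem DirOf.unique (hG : Good B) {a : G} {u u' : V} (h1 : DirOf B f a u)
    (h2 : DirOf B f a u') : u' = u ∨ u' = -u :=
  hG.iso_eq' h1.iso h2.iso h2.ne (fun s hs h3 => (h2.iff s hs).1 ((h1.iff s hs).2 h3))

end Basic

section Local

variable {f : V → G} {y x a b : G}

/-- normal form of three members of `D_y` -/
theorem exists_triple [Finite G] (F : Form B) (P : Par (Loc D y) B f) (hx : x ∈ Loc D y) (ha : a ∈ Loc D y)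
    (hb : b ∈ Loc D y) (hxa : ¬ Commute x a) (hxb : ¬ Commute x b) :
    ∃ p u w, B p p = 1 ∧ B u u = 0 ∧ B w w = 0 ∧ B p u = 0 ∧ B p w = 0 ∧ u ≠ 0 ∧ w ≠ 0 ∧
      f p = x ∧ f (p + u) = a ∧ f (p + w) = b := by
  obtain ⟨p, q, hp, hq, hpq, hfp, hfq, hne⟩ := exists_pair P hx ha hxa
  obtain ⟨p', q', hp', hq', hpq', hfp', hfq', hne'⟩ := exists_pair P hx hb hxb
  obtain ⟨q', hq', hpq', hfq', hne'⟩ : ∃ q', B q' q' = 1 ∧ B p q' = 1 ∧
      f q' = b ∧ q' ≠ p := by
    rcases P.inj p' p hp' hp (hfp'.trans hfp.symm) with h1 | h1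
    · rw [h1] at hpq' hne'
      exact ⟨q', hq', hpq', hfq', hne'⟩
    · rw [h1] at hpq' hne'
      refine ⟨-q', by simpa using hq', ?_, (P.neg q' hq').trans hfq', ?_⟩
      · rw [map_neg]
        rw [map_neg, LinearMap.neg_apply] at hpq'
        exact hpq'
      · intro h2
        apply hne'
        rw [← h2, neg_neg]
  obtain ⟨hu, hpu⟩ := iso_of_pair F hp hq hpq
  obtain ⟨hu', hpu'⟩ := iso_of_pair F hp hq' hpq'
  refine ⟨p, q - p, q' - p, hp, hu, hu', hpu, hpu', sub_ne_zero.2 hne, sub_ne_zero.2 hne', hfp,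
    ?_, ?_⟩
  · rw [add_sub_cancel]; exact hfq
  · rw [add_sub_cancel]; exact hfq'

/-- affine triples of `D_y` -/
theorem affine_iso (F : Form B) (P : Par (Loc D y) B f) {p u w : V} (hp : B p p = 1)
    (hu : B u u = 0) (hw : B w w = 0) (hpu : B p u = 0) (hpw : B p w = 0) (hw0 : w ≠ 0)
    (hfp : f p = x) (hfu : f (p + u) = a) (hfw : f (p + w) = b) (hab : ¬ Commute a b)
    (hxab : ¬ Commute (x * a * x) b) :
    B u w = 0 ∧ w ∉ Submodule.span (ZMod 3) (Set.range ![p, u]) := by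
  have hup : B u p = 0 := by rw [F.symm]; exact hpu
  have hwp : B w p = 0 := by rw [F.symm]; exact hpw
  have n1 : B (p + u) (p + u) = 1 := by rw [F.norm_add, hp, hu, hpu]; decide
  have n2 : B (p + w) (p + w) = 1 := by rw [F.norm_add, hp, hw, hpw]; decide
  have e1 : rfn B p (p + u) = u - p := by
    rw [rfn, map_add, hp, hpu, add_zero, one_smul]
    linear_combination (norm := module) three_smul' p
  have n3 : B (u - p) (u - p) = 1 := by rw [F.norm_sub, hu, hp, hup]; decide
  have c1 : x * a * x = f (u - p) := by rw [← hfp, ← hfu, P.conj p _ hp n1, e1]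
  have h1 : B (p + u) (p + w) ≠ 0 := by
    intro h
    apply hab
    rw [← hfu, ← hfw]
    exact P.commute_of_perp n1 n2 h
  have h2 : B (u - p) (p + w) ≠ 0 := by
    intro h
    apply hxab
    rw [c1, ← hfw]
    exact P.commute_of_perp n3 n2 h
  simp only [map_add, map_sub, LinearMap.add_apply, LinearMap.sub_apply, hp, hup, hpw, hup,
    add_zero, zero_add, zero_sub] at h1 h2
  constructor
  · generalize B u w = c at h1 h2
    revert c
    decide
  · rw [mem_span_pair']
    rintro ⟨c, d, rfl⟩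
    rw [map_add, map_smul, map_smul, hp, hpu, smul_zero, add_zero, smul_eq_mul, mul_one] at hpw
    rw [hpw, zero_smul, zero_add] at hfw hw0
    rcases cases3 d with h | h | h
    · rw [h, zero_smul] at hw0
      exact hw0 rfl
    · rw [h, one_smul, hfu] at hfw
      rw [hfw] at hab
      exact hab (Commute.refl _)
    · apply hxab
      rw [c1, ← hfw, h, neg_smul, one_smul, ← sub_eq_add_neg, ← neg_sub u p, P.neg _ n3]

end Local

variable [Finite G]

/-- affine triples have orthogonal directions -/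
theorem orth_of_affine (hD : FGroup D) (hG : Good B) {x : G} (hx : x ∈ D) {f : V → G}
    (P : Par (Loc D x) B f) {a b : G} (ha : a ∈ D) (hb : b ∈ D) (hxa : ¬ Commute x a)
    (hxb : ¬ Commute x b) (hab : ¬ Commute a b) (hxab : ¬ Commute (x * a * x) b) {u1 u2 : V}
    (h1 : DirOf B f a u1) (h2 : DirOf B f b u2) : B u1 u2 = 0 := by
  have h := fd hD
  have F := hG.toForm
  by_contra h0
  obtain ⟨s, hs, hu1s, hu2s⟩ := hG.P0 u1 u2 h1.iso h2.iso h0
  obtain ⟨hy, hyx, hxy⟩ := P.mem s hs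
  obtain ⟨k, hk⟩ := h.single x hx (f s) hy
  have Q := P.conjugate h k
  rw [hk] at Q
  obtain ⟨g, hg⟩ : ∃ g : V → G, g = fun v => k * f v * k⁻¹ := ⟨_, rfl⟩
  rw [← hg] at Q
  have hay : Commute a (f s) := (h1.iff s hs).2 hu1s
  have hby : Commute b (f s) := (h2.iff s hs).2 hu2s
  have hxL : x ∈ Loc D (f s) := ⟨hx, hyx.symm, hxy.symm⟩
  have haL : a ∈ Loc D (f s) := ⟨ha, fun e => hxa (by rw [e]; exact hxy), hay.symm⟩
  have hbL : b ∈ Loc D (f s) := ⟨hb, fun e => hxb (by rw [e]; exact hxy), hby.symm⟩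
  obtain ⟨p, u, w, hp, hu, hw, hpu, hpw, hu0, hw0, hgp, hgu, hgw⟩ :=
    exists_triple F Q hxL haL hbL hxa hxb
  obtain ⟨huw, hnot⟩ := affine_iso F Q hp hu hw hpu hpw hw0 hgp hgu hgw hab hxab
  have hup : B u p = 0 := by rw [F.symm]; exact hpu
  have hwp : B w p = 0 := by rw [F.symm]; exact hpw
  have hwu : B w u = 0 := by rw [F.symm]; exact huw
  have n1 : B (p + u) (p + u) = 1 := by rw [F.norm_add, hp, hu, hpu]; decide
  have n2 : B (p + w) (p + w) = 1 := by rw [F.norm_add, hp, hw, hpw]; decide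
  -- the correspondence between `D_x` and `D_y`
  have trans1 : ∀ t, B t t = 1 → B p t = 0 → ∃ t', B t' t' = 1 ∧ f t' = g t ∧ B s t' = 0 := by
    intro t ht hpt
    obtain ⟨t1, t2, t3⟩ := Q.mem t ht
    obtain ⟨c1, c2⟩ := (Q.comm_ne_iff hp ht).2 hpt
    rw [hgp] at c1 c2
    obtain ⟨t', ht', he⟩ := P.surj (g t) ⟨t1, c2.symm, c1⟩
    refine ⟨t', ht', he, ?_⟩
    rw [← P.comm_ne_iff hs ht', he]
    exact ⟨t3, t2.symm⟩
  have trans2 : ∀ t', B t' t' = 1 → B s t' = 0 → ∃ t, B t t = 1 ∧ g t = f t' ∧ B p t = 0 := by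
    intro t' ht' hst
    obtain ⟨t1, t2, t3⟩ := P.mem t' ht'
    obtain ⟨c1, c2⟩ := (P.comm_ne_iff hs ht').2 hst
    obtain ⟨t, ht, he⟩ := Q.surj (f t') ⟨t1, c2.symm, c1⟩
    refine ⟨t, ht, he, ?_⟩
    rw [← Q.comm_ne_iff hp ht, he, hgp]
    exact ⟨t3, t2.symm⟩
  -- commuting with `a` and `b` in `D_y`
  have key : ∀ (c : G) (z : V), B z z = 0 → B p z = 0 → g (p + z) = c →
      ∀ t, B t t = 1 → B p t = 0 → (Commute c (g t) ↔ B z t = 0) := by
    intro c z hz hpz hgz t ht hpt
    have n : B (p + z) (p + z) = 1 := by rw [F.norm_add, hp, hz, hpz]; decide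
    have e : B (p + z) t = B z t := by rw [map_add, LinearMap.add_apply, hpt, zero_add]
    rw [← e, ← hgz]
    constructor
    · intro hc
      rcases (Q.comm _ _ n ht).1 hc with h3 | h3 | h3
      · exact h3
      · rw [← h3, map_add, hp, hpz] at hpt
        exact absurd hpt (by decide)
      · have : t = -(p + z) := by rw [h3, neg_neg]
        rw [this, map_neg, map_add, hp, hpz] at hpt
        exact absurd hpt (by decide)
    · intro h3
      exact Q.commute_of_perp n ht h3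
  have keya := key a u hu hpu hgu
  have keyb := key b w hw hpw hgw
  obtain ⟨t, ht, htp, htw⟩ := F.exists_norm_one_of_isotropic ![p, u] hw
    (by intro i; fin_cases i; exacts [hpw, huw]) hnot
  have hpt : B p t = 0 := htp 0
  have hut : B u t = 0 := htp 1
  obtain ⟨t', ht', he, hst'⟩ := trans1 t ht hpt
  have hu1t' : B u1 t' = 0 := by
    rw [← h1.iff t' ht', he, keya t ht hpt]
    exact hut
  have hu2t' : B u2 t' ≠ 0 := by
    intro hc
    rw [← h2.iff t' ht', he, keyb t ht hpt] at hc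
    exact htw hc
  -- `r' = t' + ε u1`
  obtain ⟨ε, hε, hε'⟩ : ∃ ε : ZMod 3, ε ≠ 0 ∧ B u2 t' + ε * B u2 u1 = 0 := by
    have h3 : B u2 u1 ≠ 0 := by rw [F.symm]; exact h0
    refine ⟨-(B u2 t' * B u2 u1), neg_ne_zero.2 (mul_ne_zero hu2t' h3), ?_⟩
    have := mul_self_of_ne h3
    linear_combination (-B u2 t') * this
  have ht'u1 : B t' u1 = 0 := by rw [F.symm]; exact hu1t'
  have hsu1 : B s u1 = 0 := by rw [F.symm]; exact hu1s
  obtain ⟨r', hr'⟩ : ∃ r' : V, r' = t' + ε • u1 := ⟨_, rfl⟩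
  have nr' : B r' r' = 1 := by
    rw [hr', F.norm_add, Form.norm_smul, map_smul, ht'u1, h1.iso, ht']
    simp
  have hsr' : B s r' = 0 := by rw [hr', map_add, map_smul, hst', hsu1]; simp
  have hu1r' : B u1 r' = 0 := by rw [hr', map_add, map_smul, hu1t', h1.iso]; simp
  have hu2r' : B u2 r' = 0 := by rw [hr', map_add, map_smul, smul_eq_mul]; exact hε'
  have ht'r' : B t' r' = 1 := by rw [hr', map_add, map_smul, ht', ht'u1]; simp
  obtain ⟨r, hr, her, hpr⟩ := trans2 r' nr' hsr'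
  have hur : B u r = 0 := by
    rw [← keya r hr hpr, her, h1.iff r' nr']
    exact hu1r'
  have hwr : B w r = 0 := by
    rw [← keyb r hr hpr, her, h2.iff r' nr']
    exact hu2r'
  have hnc : ¬ Commute (g t) (g r) := by
    rw [← he, her]
    apply P.not_commute ht' nr' (by rw [ht'r']; decide)
    · intro e
      have : ε • u1 = 0 := by
        rw [hr'] at e
        have := sub_eq_zero.2 e
        rw [sub_add_cancel_left] at this
        exact neg_eq_zero.1 this
      rcases smul_eq_zero.1 this with h3 | h3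
      · exact hε h3
      · exact h1.ne h3
    · intro e
      have e2 : t' = ε • u1 := by
        rw [hr'] at e
        linear_combination (norm := module) (-1 : ZMod 3) • e + three_smul' t'
      rw [e2, Form.norm_smul, h1.iso, mul_zero] at ht'
      exact absurd ht' (by decide)
  have htr : B t r ≠ 0 := Q.ne_zero_of_not_commute ht hr hnc
  -- every member commuting with `g t`, `g r`, `x` commutes with `a`
  have hall : ∀ v, B v v = 1 → B p v = 0 → B t v = 0 → B r v = 0 → B u v = 0 := by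
    intro v hv hpv htv hrv
    obtain ⟨v', hv', hev, hsv'⟩ := trans1 v hv hpv
    have g1 : B t' v' = 0 := by
      rw [← P.comm_ne_iff ht' hv', he, hev]
      exact (Q.comm_ne_iff ht hv).2 htv
    have g2 : B r' v' = 0 := by
      rw [← P.comm_ne_iff nr' hv', ← her, hev]
      exact (Q.comm_ne_iff hr hv).2 hrv
    rw [hr', map_add, map_smul, LinearMap.add_apply, LinearMap.smul_apply, g1, zero_add,
      smul_eq_mul] at g2
    have g3 := (mul_eq_zero.1 g2).resolve_left hε
    rw [← keya v hv hpv, ← hev, h1.iff v' hv']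
    exact g3
  -- normalise the sign of `r`
  obtain ⟨q, hq, hpq, huq, hwq, htq, hall'⟩ : ∃ q, B q q = 1 ∧ B p q = 0 ∧ B u q = 0 ∧
      B w q = 0 ∧ B t q = 1 ∧ ∀ v, B v v = 1 → B p v = 0 → B t v = 0 → B q v = 0 → B u v = 0 := by
    rcases pm_of_ne htr with h3 | h3
    · exact ⟨r, hr, hpr, hur, hwr, h3, hall⟩
    · refine ⟨-r, by simpa using hr, by rw [map_neg, hpr, neg_zero], by rw [map_neg, hur, neg_zero],
        by rw [map_neg, hwr, neg_zero], by rw [map_neg, h3, neg_neg], ?_⟩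
      intro v hv hpv htv hrv
      rw [map_neg, LinearMap.neg_apply, neg_eq_zero] at hrv
      exact hall v hv hpv htv hrv
  have hspan : u ∈ Submodule.span (ZMod 3) (Set.range ![p, t, q - t]) := by
    by_contra hns
    obtain ⟨v, hv, hv1, hv2⟩ := F.exists_norm_one_of_isotropic ![p, t, q - t] hu
      (by
        intro i
        fin_cases i
        · exact hpu
        · change B t u = 0
          rw [F.symm]; exact hut
        · change B (q - t) u = 0
          rw [F.symm, map_sub, huq, hut, sub_zero]) hns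
    have hpv : B p v = 0 := hv1 0
    have htv : B t v = 0 := hv1 1
    have hqv : B (q - t) v = 0 := hv1 2
    rw [map_sub, LinearMap.sub_apply, htv, sub_zero] at hqv
    exact hv2 (hall' v hv hpv htv hqv)
  obtain ⟨α, β, γ, he2⟩ := mem_span_three hspan
  have e3 : α = 0 := by
    have := hpu
    rw [he2, map_add, map_add, map_smul, map_smul, map_smul, map_sub, hp, hpt, hpq] at this
    simpa using this
  have e4 : β = 0 := by
    have : B t u = 0 := by rw [F.symm]; exact hut
    rw [he2, map_add, map_add, map_smul, map_smul, map_smul, map_sub, F.symm t p, hpt, ht,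
      htq] at this
    simpa using this
  have e5 : γ = 0 := by
    have := hwu
    rw [he2, map_add, map_add, map_smul, map_smul, map_smul, map_sub, hwp, hwq, e4] at this
    have h3 : γ * B w t = 0 := by simpa using this
    exact (mul_eq_zero.1 h3).resolve_right htw
  rw [e3, e4, e5, zero_smul, zero_smul, zero_smul, add_zero, add_zero] at he2
  exact hu0 he2

/-- affine triples have different directions -/
theorem ne_of_affine (hD : FGroup D) (hG : Good B) {x : G} (hx : x ∈ D) {f : V → G}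
    (P : Par (Loc D x) B f) {a b : G} (ha : a ∈ D) (hb : b ∈ D) (hxa : ¬ Commute x a)
    (hxb : ¬ Commute x b) (hab : ¬ Commute a b) (hxab : ¬ Commute (x * a * x) b) {u1 u2 : V}
    (h1 : DirOf B f a u1) (h2 : DirOf B f b u2) : u2 ≠ u1 ∧ u2 ≠ -u1 := by
  have hX : (∀ v, B u1 v = 0 → B u2 v = 0) → False := by
    intro h0
    rcases theta hD hG hx P ha hb hxa hxb (by
      intro y hy hc
      obtain ⟨v, hv, rfl⟩ := P.surj y hy
      rw [h2.iff v hv]
      rw [h1.iff v hv] at hc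
      exact h0 v hc) with h3 | h3
    · rw [h3] at hab
      exact hab (Commute.refl _)
    · rw [h3] at hxab
      exact hxab (Commute.refl _)
  constructor
  · rintro rfl
    exact hX (fun v hv => hv)
  · rintro rfl
    exact hX (fun v hv => by rw [map_neg, LinearMap.neg_apply, hv, neg_zero])

/-- orthogonal independent directions: not commuting -/
theorem not_commute_of_orth (hD : FGroup D) (hG : Good B) {x : G} (hx : x ∈ D) {f : V → G}
    (P : Par (Loc D x) B f) {a b : G} (ha : a ∈ D) (hb : b ∈ D) (hxa : ¬ Commute x a)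
    (hxb : ¬ Commute x b) {u1 u2 : V} (h1 : DirOf B f a u1) (h2 : DirOf B f b u2)
    (h0 : B u1 u2 = 0) (hne : u2 ≠ u1) (hne' : u2 ≠ -u1) : ¬ Commute a b := by
  intro hab
  have h := fd hD
  have F := hG.toForm
  have hbne : b ≠ a := by
    rintro rfl
    rcases h1.unique hG h2 with h3 | h3
    exacts [hne h3, hne' h3]
  obtain ⟨y, hydef⟩ : ∃ y, y = b * (a * x * a) * b := ⟨_, rfl⟩
  have hyD : y ∈ D := by rw [hydef]; exact h.conj' hb (h.conj' ha hx)
  have hyx : Commute y x := by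
    rw [hydef]; exact s4_comm h hx hb ha hab.symm hxb hxa
  have hyne : y ≠ x := by rw [hydef]; exact s4_ne h hx hb ha hxb hxa hbne
  have haa := h.sq a ha
  have hbb := h.sq b hb
  have hm : a * b * a * b * a = a := by
    calc a * b * a * b * a = a * (b * a) * b * a := by simp only [mul_assoc]
      _ = a * (a * b) * b * a := by rw [hab.eq]
      _ = (a * a) * (b * b) * a := by simp only [mul_assoc]
      _ = a := by rw [haa, hbb]; simp
  have hy2 : y * a * y = x * b * x := by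
    calc y * a * y = b * a * x * (a * b * a * b * a) * x * a * b := by
          rw [hydef]; simp only [mul_assoc]
      _ = b * a * (x * a * x) * a * b := by rw [hm]; simp only [mul_assoc]
      _ = b * a * (a * x * a) * a * b := by rw [h.braid x hx a ha hxa]
      _ = b * (a * a) * x * (a * a) * b := by simp only [mul_assoc]
      _ = b * x * b := by rw [haa]; simp
      _ = x * b * x := (h.braid x hx b hb hxb).symm
  obtain ⟨s, hs, hfs⟩ := P.surj y ⟨hyD, hyne, hyx.symm⟩
  have h3 := h1.conj h F P hs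
  have h4 := h2.conj_x h hx P
  rw [hfs, hy2] at h3
  have h5 := h3.unique hG h4
  have h6 : B s u1 = 0 := by
    have h7 : B s u1 * B s u1 = 0 := by
      rcases h5 with h8 | h8
      · rw [h8, rfn, map_add, map_smul, h1.iso, F.symm u1 s] at h0
        simpa using h0
      · rw [h8, rfn, map_neg, map_add, map_smul, h1.iso, F.symm u1 s] at h0
        simpa using h0
    exact mul_self_eq_zero.1 h7
  rw [refl_of_perp h6] at h5
  rcases h5 with h8 | h8
  exacts [hne h8, hne' h8]

/-- isotropic vectors orthogonal to a hyperbolic pair -/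
theorem exists_isotropic_perp [Module.Finite (ZMod 3) V] (F : Form B)
    (hn : 5 ≤ Module.finrank (ZMod 3) V) {u u' : V} (hu : B u u = 0) (hu' : B u' u' = 0)
    (huu' : B u u' = 1) : ∃ t, t ≠ 0 ∧ B t t = 0 ∧ B u t = 0 ∧ B u' t = 0 := by
  have hu'u : B u' u = 1 := by rw [F.symm]; exact huu'
  obtain ⟨e1, he1, hn1⟩ := F.exists_aniso ![u, u'] ⊥ (by
    intro t ht ht'
    rw [mem_span_pair'] at ht
    obtain ⟨a, b, rfl⟩ := ht
    have h1 : B u (a • u + b • u') = 0 := ht' 0
    have h2 : B u' (a • u + b • u') = 0 := ht' 1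
    simp only [map_add, map_smul, smul_eq_mul, hu, hu', huu', hu'u, mul_zero, mul_one, zero_add,
      add_zero] at h1 h2
    simp [h1, h2]) (by rw [finrank_bot]; omega)
  have a1 : B u e1 = 0 := he1 0
  have a2 : B u' e1 = 0 := he1 1
  have a3 : B e1 u = 0 := by rw [F.symm]; exact a1
  have a4 : B e1 u' = 0 := by rw [F.symm]; exact a2
  obtain ⟨e2, he2, hn2⟩ := F.exists_aniso ![u, u', e1] ⊥ (by
    intro t ht ht'
    obtain ⟨a, b, c, rfl⟩ := mem_span_three ht
    have h1 : B u (a • u + b • u' + c • e1) = 0 := ht' 0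
    have h2 : B u' (a • u + b • u' + c • e1) = 0 := ht' 1
    have h3 : B e1 (a • u + b • u' + c • e1) = 0 := ht' 2
    simp only [map_add, map_smul, smul_eq_mul, hu, hu', huu', hu'u, a1, a2, a3, a4,
      mul_zero, mul_one, zero_add, add_zero] at h1 h2 h3
    have h4 := (mul_eq_zero.1 h3).resolve_right hn1
    simp [h1, h2, h4]) (by rw [finrank_bot]; omega)
  have b1 : B u e2 = 0 := he2 0
  have b2 : B u' e2 = 0 := he2 1
  have b3 : B e1 e2 = 0 := he2 2
  have b4 : B e2 u = 0 := by rw [F.symm]; exact b1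
  have b5 : B e2 u' = 0 := by rw [F.symm]; exact b2
  have b6 : B e2 e1 = 0 := by rw [F.symm]; exact b3
  obtain ⟨e3, he3, hn3⟩ := F.exists_aniso ![u, u', e1, e2] ⊥ (by
    intro t ht ht'
    rw [Submodule.mem_span_range_iff_exists_fun] at ht
    obtain ⟨c, rfl⟩ := ht
    rw [Fin.sum_univ_four] at ht' ⊢
    have h1 : B u (c 0 • u + c 1 • u' + c 2 • e1 + c 3 • e2) = 0 := ht' 0
    have h2 : B u' (c 0 • u + c 1 • u' + c 2 • e1 + c 3 • e2) = 0 := ht' 1
    have h3 : B e1 (c 0 • u + c 1 • u' + c 2 • e1 + c 3 • e2) = 0 := ht' 2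
    have h4 : B e2 (c 0 • u + c 1 • u' + c 2 • e1 + c 3 • e2) = 0 := ht' 3
    simp only [map_add, map_smul, smul_eq_mul, hu, hu', huu', hu'u, a1, a2, a3, a4, b1, b2, b3, b4,
      b5, b6, mul_zero, mul_one, zero_add, add_zero] at h1 h2 h3 h4
    have h5 := (mul_eq_zero.1 h3).resolve_right hn1
    have h6 := (mul_eq_zero.1 h4).resolve_right hn2
    simp [h1, h2, h5, h6]) (by rw [finrank_bot]; omega)
  have c1 : B u e3 = 0 := he3 0
  have c2 : B u' e3 = 0 := he3 1
  have c3 : B e1 e3 = 0 := he3 2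
  have c4 : B e2 e3 = 0 := he3 3
  have two : ∀ v w : V, B u v = 0 → B u' v = 0 → B u w = 0 → B u' w = 0 → B v w = 0 →
      B v v = 1 → B w w = -1 → ∃ t, t ≠ 0 ∧ B t t = 0 ∧ B u t = 0 ∧ B u' t = 0 := by
    intro v w g1 g2 g3 g4 g5 g6 g7
    refine ⟨v + w, ?_, ?_, by rw [map_add, g1, g3, add_zero], by rw [map_add, g2, g4, add_zero]⟩
    · intro h0
      have h1 : B v (v + w) = 1 := by rw [map_add, g6, g5, add_zero]
      rw [h0, map_zero] at h1
      exact absurd h1 (by decide)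
    · rw [F.norm_add, g6, g5, g7]; decide
  have three : B e2 e2 = B e1 e1 → B e3 e3 = B e1 e1 →
      ∃ t, t ≠ 0 ∧ B t t = 0 ∧ B u t = 0 ∧ B u' t = 0 := by
    intro g1 g2
    refine ⟨e1 + e2 + e3, ?_, ?_, by simp only [map_add, a1, b1, c1, add_zero],
      by simp only [map_add, a2, b2, c2, add_zero]⟩
    · intro h0
      apply hn1
      have h1 : B e1 (e1 + e2 + e3) = B e1 e1 := by
        rw [map_add, map_add, b3, c3, add_zero, add_zero]
      rw [← h1, h0, map_zero]
    · rw [F.norm_add, F.norm_add, b3, map_add, LinearMap.add_apply, c3, c4, g1, g2]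
      linear_combination (B e1 e1) * three
  rcases pm_of_ne hn1 with g1 | g1 <;> rcases pm_of_ne hn2 with g2 | g2 <;>
    rcases pm_of_ne hn3 with g3 | g3
  · exact three (g2.trans g1.symm) (g3.trans g1.symm)
  · exact two e1 e3 a1 a2 c1 c2 c3 g1 g3
  · exact two e1 e2 a1 a2 b1 b2 b3 g1 g2
  · exact two e1 e2 a1 a2 b1 b2 b3 g1 g2
  · exact two e2 e1 b1 b2 a1 a2 b6 g2 g1
  · exact two e2 e1 b1 b2 a1 a2 b6 g2 g1
  · exact two e3 e1 c1 c2 a1 a2 (by rw [F.symm]; exact c3) g3 g1
  · exact three (g2.trans g1.symm) (g3.trans g1.symm)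

theorem exists_not_commute (hD : FGroup D) {x : G} (hx : x ∈ D) : ∃ a ∈ D, ¬ Commute x a := by
  have h := fd hD
  by_contra hcon
  push Not at hcon
  have h1 := h.mem_center_of_forall_commute hcon
  rw [Cfsg.Agent.SporadicStructure.FischerPrimitive.center_eq_bot hD.sol, Subgroup.mem_bot] at h1
  exact h.ne_one x hx h1

/-- existence of affine triples -/
theorem exists_affine [Module.Finite (ZMod 3) V] (hD : FGroup D) (hG : Good B)
    (hn : 5 ≤ Module.finrank (ZMod 3) V) {x : G} (hx : x ∈ D) {f : V → G}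
    (P : Par (Loc D x) B f) (hE : ∀ a ∈ D, ¬ Commute x a → ∃ u, DirOf B f a u) :
    ∃ a ∈ D, ∃ b ∈ D, ¬ Commute x a ∧ ¬ Commute x b ∧ ¬ Commute a b ∧
      ¬ Commute (x * a * x) b := by
  have h := fd hD
  have F := hG.toForm
  obtain ⟨a, ha, hxa⟩ := exists_not_commute hD hx
  obtain ⟨u1, h1⟩ := hE a ha hxa
  obtain ⟨t0, ht0⟩ := F.exists_one h1.ne
  obtain ⟨u', hu'⟩ : ∃ u', u' = t0 + B t0 t0 • u1 := ⟨_, rfl⟩
  have ht0' : B t0 u1 = 1 := by rw [F.symm]; exact ht0
  have iu' : B u' u' = 0 := by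
    rw [hu', F.norm_add, Form.norm_smul, map_smul, ht0', h1.iso]
    simp only [smul_eq_mul, mul_one, mul_zero, add_zero]
    linear_combination (B t0 t0) * three
  have hu1u' : B u1 u' = 1 := by rw [hu', map_add, map_smul, ht0, h1.iso]; simp
  have hu'u1 : B u' u1 = 1 := by rw [F.symm]; exact hu1u'
  obtain ⟨t, ht0, ht, hut, hu't⟩ := exists_isotropic_perp F hn h1.iso iu' hu1u'
  have htu : B t u1 = 0 := by rw [F.symm]; exact hut
  have htu' : B t u' = 0 := by rw [F.symm]; exact hu't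
  obtain ⟨s1, hs1⟩ : ∃ s, s = u' - u1 := ⟨_, rfl⟩
  obtain ⟨s2, hs2⟩ : ∃ s, s = u' - u1 + t := ⟨_, rfl⟩
  have n1 : B s1 s1 = 1 := by
    rw [hs1, F.norm_sub, iu', hu'u1, h1.iso]; decide
  have n2 : B s2 s2 = 1 := by
    rw [hs2, F.norm_add, ← hs1, n1, hs1, map_sub, LinearMap.sub_apply, hu't, hut, ht]; decide
  have r1 : rfn B s1 u1 = u' := by
    rw [rfn, hs1, map_sub, LinearMap.sub_apply, hu'u1, h1.iso, sub_zero, one_smul]
    abel
  have r2 : rfn B s2 u' = u1 - t := by
    rw [rfn, hs2, map_add, map_sub, LinearMap.add_apply, LinearMap.sub_apply, iu', hu1u', htu',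
      add_zero, zero_sub, neg_smul, one_smul]
    abel
  have d1 := h1.conj h F P n1
  rw [r1] at d1
  have d2 := d1.conj h F P n2
  rw [r2] at d2
  obtain ⟨b, hb⟩ : ∃ b, b = f s2 * (f s1 * a * f s1) * f s2 := ⟨_, rfl⟩
  rw [← hb] at d2
  obtain ⟨m1, -, c1⟩ := P.mem s1 n1
  obtain ⟨m2, -, c2⟩ := P.mem s2 n2
  have hbD : b ∈ D := by rw [hb]; exact h.conj' m2 (h.conj' m1 ha)
  have hxb : ¬ Commute x b := by
    intro hc
    apply hxa
    rw [hb] at hc
    have := (h.commute_conj_left_iff m2 _ _).1 hc.symm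
    rw [(h.commute_iff m2 x).1 c2.symm] at this
    have := (h.commute_conj_left_iff m1 _ _).1 this
    rw [(h.commute_iff m1 x).1 c1.symm] at this
    exact this.symm
  have o : B u1 (u1 - t) = 0 := by rw [map_sub, h1.iso, hut, sub_zero]
  have ne1 : u1 - t ≠ u1 := by
    intro e
    exact ht0 (by simpa using e)
  have ne2 : u1 - t ≠ -u1 := by
    intro e
    have e2 : B (u1 - t) u' = B (-u1) u' := by rw [e]
    rw [map_sub, LinearMap.sub_apply, map_neg, LinearMap.neg_apply, hu1u', htu'] at e2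
    exact absurd e2 (by decide)
  have hxxa : ¬ Commute x (x * a * x) := by
    intro hc
    apply hxa
    have := (h.commute_conj_left_iff hx _ _).1 hc.symm
    rw [h.sq x hx, one_mul] at this
    exact this.symm
  exact ⟨a, ha, b, hbD, hxa, hxb, not_commute_of_orth hD hG hx P ha hbD hxa hxb h1 d2 o ne1 ne2,
    not_commute_of_orth hD hG hx P (h.conj' hx ha) hbD hxxa hxb (h1.conj_x h hx P) d2 o ne1 ne2⟩

theorem combi (α β γ δ s t : ZMod 3) (hα : α ≠ 0) (hβ : β ≠ 0) (hγ : γ ≠ 0) (hδ : δ ≠ 0)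
    (hs : s ≠ 0) (ht : t ≠ 0) (h1 : α * s + β * t ≠ 0) (h2 : γ * s + δ * t ≠ 0) :
    (γ = α ∧ δ = β) ∨ (γ = -α ∧ δ = -β) := by
  have key : ∀ a b : ZMod 3, a ≠ 0 → b ≠ 0 → a + b ≠ 0 → a = b := by decide
  have key2 : ∀ a b : ZMod 3, a ≠ 0 → b ≠ 0 → b = a ∨ b = -a := by decide
  have e1 := key _ _ (mul_ne_zero hα hs) (mul_ne_zero hβ ht) h1
  have e2 := key _ _ (mul_ne_zero hγ hs) (mul_ne_zero hδ ht) h2
  rcases key2 α γ hα hγ with rfl | rfl
  · left
    refine ⟨rfl, ?_⟩
    rw [e1] at e2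
    exact (mul_right_cancel₀ ht e2).symm
  · right
    refine ⟨rfl, ?_⟩
    rw [neg_mul, e1, ← neg_mul] at e2
    exact (mul_right_cancel₀ ht e2).symm

/-- every member of `D_x` commutes with a line through `x` of each affine plane through `x` -/
theorem never_one (hD : FGroup D) (hG : Good B) {x : G} (hx : x ∈ D) {f : V → G}
    (P : Par (Loc D x) B f) (hE : ∀ a ∈ D, ¬ Commute x a → ∃ u, DirOf B f a u)
    {p : ZMod 3 × ZMod 3 → G} (hp : Cfsg.Agent.TSp.Plane.Pl D p) (hp0 : p 0 = x) {d : G}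
    (hd : d ∈ D) (hdx : Commute d x) (hne : d ≠ x) :
    Commute d (p (1, 0)) ∨ Commute d (p (0, 1)) ∨ Commute d (p (2, 2)) ∨
      Commute d (p (2, 1)) := by
  have h := fd hD
  have F := hG.toForm
  have hthird : ∀ w, x * p w * x = p (-w) := by
    intro w
    have h1 := hp.third 0 w
    rw [hp0, neg_zero, zero_sub] at h1
    rw [← h1, Cfsg.Agent.ThreeTransPolar.Basic.cj_def, h.inv_eq hx]
  have hx' : ∀ w, w ≠ 0 → ¬ Commute x (p w) := by
    intro w hw
    rw [← hp0]
    exact hp.ncomm 0 w hw.symm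
  have orth : ∀ w w' : ZMod 3 × ZMod 3, w ≠ 0 → w' ≠ 0 → w ≠ w' → -w ≠ w' → ∀ u u',
      DirOf B f (p w) u → DirOf B f (p w') u' → B u u' = 0 ∧ u' ≠ u ∧ u' ≠ -u := by
    intro w w' hw hw' h1 h2 u u' hu hu'
    have c1 : ¬ Commute (x * p w * x) (p w') := by rw [hthird]; exact hp.ncomm _ _ h2
    exact ⟨orth_of_affine hD hG hx P (hp.mem w) (hp.mem w') (hx' w hw) (hx' w' hw')
      (hp.ncomm w w' h1) c1 hu hu', ne_of_affine hD hG hx P (hp.mem w) (hp.mem w') (hx' w hw)
      (hx' w' hw') (hp.ncomm w w' h1) c1 hu hu'⟩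
  obtain ⟨u1, h1⟩ := hE (p (1, 0)) (hp.mem _) (hx' _ (by decide))
  obtain ⟨u2, h2⟩ := hE (p (0, 1)) (hp.mem _) (hx' _ (by decide))
  obtain ⟨u3, h3⟩ := hE (p (2, 2)) (hp.mem _) (hx' _ (by decide))
  obtain ⟨u4, h4⟩ := hE (p (2, 1)) (hp.mem _) (hx' _ (by decide))
  obtain ⟨o12, -, -⟩ := orth _ _ (by decide) (by decide) (by decide) (by decide) _ _ h1 h2
  obtain ⟨o13, n13, m13⟩ := orth _ _ (by decide) (by decide) (by decide) (by decide) _ _ h1 h3
  obtain ⟨o23, n23, m23⟩ := orth _ _ (by decide) (by decide) (by decide) (by decide) _ _ h2 h3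
  obtain ⟨o14, n14, m14⟩ := orth _ _ (by decide) (by decide) (by decide) (by decide) _ _ h1 h4
  obtain ⟨o24, n24, m24⟩ := orth _ _ (by decide) (by decide) (by decide) (by decide) _ _ h2 h4
  obtain ⟨o34, n34, m34⟩ := orth _ _ (by decide) (by decide) (by decide) (by decide) _ _ h3 h4
  have cl3 : ∀ v, B v v = 1 → B u1 v = 0 → B u2 v = 0 → B u3 v = 0 := by
    intro v hv g1 g2
    rw [← h3.iff v hv]
    have g3 := (h1.iff v hv).2 g1
    have g4 := (h2.iff v hv).2 g2
    have e : p (2, 2) = p (1, 0) * p (0, 1) * (p (1, 0))⁻¹ :=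
      (hp.third (1, 0) (0, 1)).symm
    rw [e]
    exact (g3.mul_left g4).mul_left g3.inv_left
  have cl4 : ∀ v, B v v = 1 → B u1 v = 0 → B u2 v = 0 → B u4 v = 0 := by
    intro v hv g1 g2
    rw [← h4.iff v hv]
    have g3 := (h1.iff v hv).2 g1
    have g4 := (h2.iff v hv).2 g2
    have g5 : Commute x (f v) := (P.mem v hv).2.2
    have e : p (2, 1) = p (1, 0) * p (0, 2) * (p (1, 0))⁻¹ :=
      (hp.third (1, 0) (0, 2)).symm
    have e2 : p (0, 2) = x * p (0, 1) * x := (hthird (0, 1)).symm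
    rw [e, e2]
    exact (g3.mul_left ((g5.mul_left g4).mul_left g5)).mul_left g3.inv_left
  have span : ∀ u, B u u = 0 → B u1 u = 0 → B u2 u = 0 →
      (∀ v, B v v = 1 → B u1 v = 0 → B u2 v = 0 → B u v = 0) →
      ∃ α β : ZMod 3, α • u1 + β • u2 = u := by
    intro u hu g1 g2 g3
    rw [← mem_span_pair']
    by_contra hns
    obtain ⟨v, hv, hv1, hv2⟩ := F.exists_norm_one_of_isotropic ![u1, u2] hu
      (by intro i; fin_cases i; exacts [g1, g2]) hns
    exact hv2 (g3 v hv (hv1 0) (hv1 1))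
  obtain ⟨α, β, e3⟩ := span u3 h3.iso o13 o23 cl3
  obtain ⟨γ, δ, e4⟩ := span u4 h4.iso o14 o24 cl4
  have nz : ∀ (u : V) (α β : ZMod 3), α • u1 + β • u2 = u → u ≠ 0 → u ≠ u1 → u ≠ -u1 →
      u ≠ u2 → u ≠ -u2 → α ≠ 0 ∧ β ≠ 0 := by
    intro u α β e g0 g1 g2 g3 g4
    constructor
    · rintro rfl
      rw [zero_smul, zero_add] at e
      rcases cases3 β with hb | hb | hb
      · rw [hb, zero_smul] at e; exact g0 e.symm
      · rw [hb, one_smul] at e; exact g3 e.symm
      · rw [hb, neg_smul, one_smul] at e; exact g4 e.symm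
    · rintro rfl
      rw [zero_smul, add_zero] at e
      rcases cases3 α with hb | hb | hb
      · rw [hb, zero_smul] at e; exact g0 e.symm
      · rw [hb, one_smul] at e; exact g1 e.symm
      · rw [hb, neg_smul, one_smul] at e; exact g2 e.symm
  obtain ⟨hα, hβ⟩ := nz u3 α β e3 h3.ne n13 m13 n23 m23
  obtain ⟨hγ, hδ⟩ := nz u4 γ δ e4 h4.ne n14 m14 n24 m24
  obtain ⟨v, hv, rfl⟩ := P.surj d ⟨hd, hne, hdx.symm⟩
  by_contra hcon
  push Not at hcon
  obtain ⟨k1, k2, k3, k4⟩ := hcon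
  rw [Commute.symm_iff, h1.iff v hv] at k1
  rw [Commute.symm_iff, h2.iff v hv] at k2
  rw [Commute.symm_iff, h3.iff v hv, ← e3, map_add, map_smul, map_smul, LinearMap.add_apply,
    LinearMap.smul_apply, LinearMap.smul_apply, smul_eq_mul, smul_eq_mul] at k3
  rw [Commute.symm_iff, h4.iff v hv, ← e4, map_add, map_smul, map_smul, LinearMap.add_apply,
    LinearMap.smul_apply, LinearMap.smul_apply, smul_eq_mul, smul_eq_mul] at k4
  rcases combi α β γ δ _ _ hα hβ hγ hδ k1 k2 k3 k4 with ⟨r1, r2⟩ | ⟨r1, r2⟩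
  · apply n34
    rw [← e3, ← e4, r1, r2]
  · apply m34
    rw [← e3, ← e4, r1, r2, neg_smul, neg_smul]
    abel

/-- the hypotheses of the theorem (O) -/
theorem geoO (hD : FGroup D) {n : ℕ} (hn : 5 ≤ n) (hR : ∀ x ∈ D, IsR n (Loc D x)) :
    Cfsg.Agent.Fischer3.OrthO9.GeoO D := by
  have h := fd hD
  have hpar : ∀ x ∈ D, ∃ (B : BilinForm (ZMod 3) (Fin n → ZMod 3)) (f : (Fin n → ZMod 3) → G),
      Good B ∧ Par (Loc D x) B f ∧ ∀ a ∈ D, ¬ Commute x a → ∃ u, DirOf B f a u := by
    intro x hx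
    obtain ⟨B, f, hG, P⟩ := exists_par h hn (hR x hx)
    refine ⟨B, f, hG, P, ?_⟩
    intro a ha hxa
    obtain ⟨u, hu0, hu, hu1⟩ := Cfsg.Agent.Fischer3.Orth3Five.exists_dir hD hG.toForm
      (by rw [Module.finrank_fin_fun]; exact hn) hx P ha hxa
    exact ⟨u, hu0, hu, hu1⟩
  constructor
  · intro x hx a ha b hb d hd hxa hxb hab hxab hdx hne
    obtain ⟨B, f, hG, P, hE⟩ := hpar x hx
    have hS := Cfsg.Agent.TSp.Basic.tset_of_fdata h
    have hA : Cfsg.Agent.TSp.Plane.Aff D x a b := by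
      refine ⟨hx, ha, hb, hxa, hxb, hab, ?_⟩
      intro hc
      apply hxab
      rw [Cfsg.Agent.ThreeTransPolar.Basic.cj_def, h.inv_eq ha] at hc
      have h1 := (h.commute_conj_left_iff ha _ _).1 hc.symm
      rw [h.inv_eq hx, h.braid x hx a ha hxa]
      exact h1.symm
    obtain ⟨p, hp, p0, p1, p2, -⟩ := Cfsg.Agent.TSp.Plane.exists_pl hS hA
    have e3 : p (2, 2) = a * b * a⁻¹ := by
      rw [← p1, ← p2]
      exact (hp.third (1, 0) (0, 1)).symm
    have e4 : p (2, 1) = a * (x * b * x⁻¹) * a⁻¹ := by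
      have e5 : p (0, 2) = x * b * x⁻¹ := by
        rw [← p0, ← p2]
        exact (hp.third 0 (0, 1)).symm
      rw [← e5, ← p1]
      exact (hp.third (1, 0) (0, 2)).symm
    rw [← e3, ← e4, ← p1, ← p2]
    exact never_one hD hG hx P hE hp p0 hd hdx hne
  · obtain ⟨x, hx⟩ : ∃ x, x ∈ D := by
      obtain ⟨-, ⟨d, hd, hDd⟩, -⟩ := hD.cls
      exact ⟨d, by rw [hDd]; exact ⟨1, by simp⟩⟩
    obtain ⟨B, f, hG, P, hE⟩ := hpar x hx
    obtain ⟨a, ha, b, hb, h1, h2, h3, h4⟩ := exists_affine hD hG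
      (by rw [Module.finrank_fin_fun]; exact hn) hx P hE
    refine ⟨x, hx, a, ha, b, hb, h1, h2, h3, ?_⟩
    rw [h.inv_eq hx]
    exact h4

/-- the case (E) -/
theorem exists_isR (hD : FGroup D) {n : ℕ} (hn : 5 ≤ n) (hR : ∀ x ∈ D, IsR n (Loc D x)) :
    ∃ m, IsR m D :=
  Cfsg.Agent.Fischer3.OrthO9.exists_isR hD (geoO hD hn hR)

end Cfsg.Agent.FischerO.NeverOne
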